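import Groth.Agent.Lib.HilbObs3.Vanish
import Mathlib.AlgebraicGeometry.Morphisms.ClosedImmersion

/-!
# Vanishing of the first cohomology of homomorphisms for a closed immersion
-/

set_option autoImplicit false
set_option linter.style.haveILetI false
set_option backward.isDefEq.respectTransparency.types false

universe u

open CategoryTheory CategoryTheory.Limits AlgebraicGeometry Opposite

namespace Groth.Agent.EmbLift3

open Groth.Agent

theorem isIso_unitToPush {X Y : Scheme.{u}} (φ : X ⟶ Y) [IsIso φ] : IsIso (ClSub.unitToPush φ) :=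
  Scheme.Modules.Hom.isIso_iff_isIso_app.2 fun V =>
    (ConcreteCategory.isIso_iff_bijective _).2 (ConcreteCategory.bijective_of_isIso (φ.app V))

variable {P Z : Scheme.{u}} (ι : Z ⟶ P) [IsClosedImmersion ι]

/-- The structure module of a closed subscheme. -/
theorem nonempty_push_quotMod_iso :
    Nonempty ((Scheme.Modules.pushforward ι).obj (Coh.structureModule Z) ≅ ClSub.quotMod ι.ker) := by
  haveI : IsIso ι.toImage := inferInstance
  haveI := isIso_unitToPush ι.toImage
  exact ⟨(Scheme.Modules.pushforwardCongr (Scheme.Hom.toImage_imageι ι).symm).app _ ≪≫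
    ((Scheme.Modules.pushforwardComp ι.toImage ι.imageι).app _).symm ≪≫
    (Scheme.Modules.pushforward ι.imageι).mapIso (asIso (ClSub.unitToPush ι.toImage)).symm⟩

/-- The vanishing of the first `Ext` of the conormal sheaf gives that of the sheaf of homomorphisms. -/
theorem subsingleton_HH_homMod [IsNoetherian P] [HasExt.{u} Z.Modules]
    (h : Subsingleton (Abelian.Ext.{u} (Omega.conormal ι) (Coh.structureModule Z) 1)) :
    Subsingleton (Coh.HH P (M2.homMod (ClSub.idealMod ι.ker) (ClSub.quotMod ι.ker)) 1) := by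
  haveI : DCoh.HasSheafHom (Omega.conormal ι) := HilbObs3.hasSheafHom _
  obtain ⟨e⟩ := @HilbObs3.nonempty_push_sheafHom_iso P (ClSub.idealMod ι.ker) Z ι ‹_› (Coh.structureModule Z)
  obtain ⟨e1⟩ := nonempty_push_quotMod_iso ι
  obtain ⟨e2⟩ := HilbObs3.nonempty_sheafHom_iso (Omega.conormal ι) (Coh.structureModule Z)
  have hq : Coh.IsQCoh ((DCoh.sheafHom (Omega.conormal ι)).obj (Coh.structureModule Z)) :=
    (SheafOfModules.isQuasicoherent Z.ringCatSheaf).prop_of_iso (show _ ≅ _ from e2.symm)
      (HomShH7.isQCoh_homMod (M1.isFP_pullback _ (M1.isFP_of_isCoh (CurveCoh17.isCoh_idealMod _)))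
        (M1.isQCoh_structureModule _))
  have h2 := AffStratVan4.subsingleton_HH_push ι _ hq 1
    (HilbObs3.subsingleton_HH_one_sheafHom (Omega.conormal ι) (Coh.structureModule Z) h)
  haveI : DCoh.HasSheafHom (ClSub.idealMod ι.ker) := HilbObs3.hasSheafHom _
  obtain ⟨a⟩ := HilbObs3.nonempty_sheafHom_iso (ClSub.idealMod ι.ker) ((Scheme.Modules.pushforward ι).obj (Coh.structureModule Z))
  obtain ⟨b⟩ := HilbObs3.nonempty_sheafHom_iso (ClSub.idealMod ι.ker) (ClSub.quotMod ι.ker)
  exact AffStratVan4.subsingleton_HH_congr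
    (e ≪≫ a.symm ≪≫ (DCoh.sheafHom (ClSub.idealMod ι.ker)).mapIso e1 ≪≫ b) 1 h2

end Groth.Agent.EmbLift3
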