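import Groth.Agent.Lib.EmbLift3.Step
import Groth.Agent.Lib.EmbLift3.Vanish
import Groth.Agent.Lib.SmoothObs3.Adic
import Groth.Agent.Lib.ProdComp12.Basic
import Groth.Agent.S0040
import Groth.Agent.S11762

/-!
# Flat lifts of closed subschemes to a discrete valuation ring
-/

set_option autoImplicit false
set_option linter.style.haveILetI false
set_option backward.isDefEq.respectTransparency.types false

universe u

open CategoryTheory CategoryTheory.Limits AlgebraicGeometry IsLocalRing Opposite

namespace Groth.Agent.EmbLift3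

/-- The kernel of a base change of a closed immersion of affine bases. -/
theorem ker_app_of_sq {B C : Type u} [CommRing B] [CommRing C] {P P' : Scheme.{u}} (q : B →+* C)
    (hq : Function.Surjective q) {i : P' ⟶ P} {g' : P' ⟶ Spec (CommRingCat.of C)}
    {f : P ⟶ Spec (CommRingCat.of B)} (hsq : IsPullback i g' f (Spec.map (CommRingCat.ofHom q)))
    (W : P.affineOpens) : RingHom.ker (i.app W.1).hom = (RingHom.ker q).map (sig f W.1) := by
  haveI : IsClosedImmersion (Spec.map (CommRingCat.ofHom q)) := IsClosedImmersion.spec_of_surjective _ hq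
  have he : (Spec.map (CommRingCat.ofHom q)).ker.ideal ⟨⊤, isAffineOpen_top _⟩ =
      (RingHom.ker q).map (Scheme.ΓSpecIso (CommRingCat.of B)).inv.hom := by
    refine le_antisymm (fun a ha => ?_) (Ideal.map_le_iff_le_comap.2 fun b hb => ?_)
    · have := Ideal.mem_map_of_mem (Scheme.ΓSpecIso (CommRingCat.of B)).inv.hom
        (RingHom.mem_ker.2 ((SmoothObs3.mem_ker_specMap q a).1 ha))
      simpa using this
    · exact (SmoothObs3.mem_ker_specMap q _).2 (by simpa using hb)
  rw [FormalH7.ker_app_eq hsq ⟨⊤, isAffineOpen_top _⟩ W le_top, he, Ideal.map_map]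
  rfl

variable (R : Type u) [CommRing R] [IsLocalRing R]

/-- The truncations of the base. -/
abbrev Q (n : ℕ) : Type u := R ⧸ maximalIdeal R ^ (n + 1)

/-- The transition of truncations. -/
noncomputable abbrev qn (n : ℕ) : Q R (n + 1) →+* Q R n :=
  Ideal.Quotient.factor (Ideal.pow_le_pow_right (Nat.le_succ (n + 1)))

/-- Reduction of a truncation to the residue field. -/
noncomputable def qk (n : ℕ) : Q R n →+* ResidueField R :=
  Ideal.Quotient.lift _ (residue R) fun a ha =>
    (residue_eq_zero_iff a).2 (Ideal.pow_le_self (Nat.succ_ne_zero n) ha)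

theorem qk_mk (n : ℕ) (a : R) : qk R n (Ideal.Quotient.mk _ a) = residue R a := Ideal.Quotient.lift_mk _ _ _

theorem qk_comp_qn (n : ℕ) : (qk R n).comp (qn R n) = qk R (n + 1) :=
  Ideal.Quotient.ringHom_ext (RingHom.ext fun a => by
    simp only [RingHom.comp_apply, Ideal.Quotient.factor_mk, qk_mk])

theorem ker_residue_le (n : ℕ) :
    RingHom.ker (Ideal.Quotient.mk (maximalIdeal R ^ (n + 1))) ≤ maximalIdeal R := by
  rw [Ideal.mk_ker]
  exact Ideal.pow_le_self (Nat.succ_ne_zero n)

theorem qk_surjective (n : ℕ) : Function.Surjective (qk R n) := fun y => by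
  obtain ⟨a, rfl⟩ := residue_surjective y
  exact ⟨_, qk_mk R n a⟩

theorem isLocalRing_Q (n : ℕ) : IsLocalRing (Q R n) := PicLift3.isLocalRing_quot n

variable {R}

theorem maximalIdeal_Q (n : ℕ) [IsLocalRing (Q R n)] :
    maximalIdeal (Q R n) = (maximalIdeal R).map (Ideal.Quotient.mk (maximalIdeal R ^ (n + 1))) :=
  (eq_maximalIdeal (Ideal.IsMaximal.map_of_surjective_of_ker_le Ideal.Quotient.mk_surjective
    (ker_residue_le R n))).symm

theorem ker_qk (n : ℕ) [IsLocalRing (Q R n)] : RingHom.ker (qk R n) = maximalIdeal (Q R n) :=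
  (eq_maximalIdeal (RingHom.ker_isMaximal_of_surjective _ (qk_surjective R n)))

section family

variable {X : Scheme.{u}} (g : X ⟶ Spec (CommRingCat.of R))

/-- The closed fibre. -/
noncomputable abbrev fib : Scheme.{u} := pullback g (Spec.map (CommRingCat.ofHom (residue R)))

theorem spec_qk (n : ℕ) : Spec.map (CommRingCat.ofHom (qk R n)) ≫ CohB1.specQuot (maximalIdeal R) n =
    Spec.map (CommRingCat.ofHom (residue R)) := by
  rw [CohB1.specQuot, ← Spec.map_comp]
  exact congrArg Spec.map (CommRingCat.hom_ext (RingHom.ext fun a => qk_mk R n a))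

/-- The closed fibre inside a truncation. -/
noncomputable def incl (n : ℕ) : fib g ⟶ CohB1.thick g (maximalIdeal R) n :=
  pullback.lift (pullback.fst _ _) (pullback.snd _ _ ≫ Spec.map (CommRingCat.ofHom (qk R n)))
    (by rw [Category.assoc, spec_qk]; exact pullback.condition)

theorem isPullback_incl (n : ℕ) : IsPullback (incl g n) (pullback.snd _ _)
    (CohB1.thickToBase g (maximalIdeal R) n) (Spec.map (CommRingCat.ofHom (qk R n))) :=
  IsPullback.of_right (h₁₂ := CohB1.thickι g (maximalIdeal R) n) (h₂₂ := CohB1.specQuot (maximalIdeal R) n)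
    (v₁₃ := g)
    (by
      rw [spec_qk, show incl g n ≫ CohB1.thickι g (maximalIdeal R) n = pullback.fst _ _ from pullback.lift_fst _ _ _]
      exact IsPullback.of_hasPullback _ _)
    (pullback.lift_snd _ _ _) (IsPullback.of_hasPullback _ _)

theorem isPullback_trans (n : ℕ) : IsPullback (CohB1.thickTrans g (maximalIdeal R) n)
    (CohB1.thickToBase g (maximalIdeal R) n) (CohB1.thickToBase g (maximalIdeal R) (n + 1))
    (Spec.map (CommRingCat.ofHom (qn R n))) :=
  IsPullback.of_right (h₁₂ := CohB1.thickι g (maximalIdeal R) (n + 1)) (h₂₂ := CohB1.specQuot (maximalIdeal R) (n + 1))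
    (v₁₃ := g)
    (by
      rw [show CohB1.thickTrans g (maximalIdeal R) n ≫ CohB1.thickι g (maximalIdeal R) (n + 1) =
          CohB1.thickι g (maximalIdeal R) n from (pullback.lift_fst _ _ _).trans (Category.comp_id _),
        show Spec.map (CommRingCat.ofHom (qn R n)) ≫ CohB1.specQuot (maximalIdeal R) (n + 1) =
          CohB1.specQuot (maximalIdeal R) n from CohB1.specQuotTrans_specQuot _ n]
      exact IsPullback.of_hasPullback _ _)
    (pullback.lift_snd _ _ _) (IsPullback.of_hasPullback _ _)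

theorem incl_ι (n : ℕ) : incl g n ≫ CohB1.thickι g (maximalIdeal R) n = pullback.fst _ _ := pullback.lift_fst _ _ _

theorem trans_ι (n : ℕ) : CohB1.thickTrans g (maximalIdeal R) n ≫ CohB1.thickι g (maximalIdeal R) (n + 1) =
    CohB1.thickι g (maximalIdeal R) n :=
  (pullback.lift_fst _ _ _).trans (Category.comp_id _)

theorem incl_trans (n : ℕ) : incl g n ≫ CohB1.thickTrans g (maximalIdeal R) n = incl g (n + 1) := by
  refine (IsPullback.of_hasPullback g (CohB1.specQuot (maximalIdeal R) (n + 1))).hom_ext ?_ ?_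
  · refine ((Category.assoc _ _ _).trans ((congrArg (incl g n ≫ ·) (trans_ι g n)).trans ?_))
    exact (incl_ι g n).trans (incl_ι g (n + 1)).symm
  · refine ((Category.assoc _ _ _).trans ((congrArg (incl g n ≫ ·) (isPullback_trans g n).w).trans ?_))
    refine ((Category.assoc _ _ _).symm.trans ((congrArg (· ≫ _) (isPullback_incl g n).w).trans ?_))
    refine (Category.assoc _ _ _).trans (Eq.trans ?_ (isPullback_incl g (n + 1)).w.symm)
    rw [← Spec.map_comp, ← CommRingCat.ofHom_comp, qk_comp_qn]

end family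

theorem isPullback_comap {X Y : Scheme.{u}} (f : X ⟶ Y) (I : Y.IdealSheafData) {I' : X.IdealSheafData}
    (h : I.comap f = I') : ∃ t, IsPullback t I'.subschemeι I.subschemeι f := by
  subst h
  exact ⟨(I.comapIso f).hom ≫ pullback.snd _ _, (IsPullback.of_hasPullback f I.subschemeι).flip.of_iso
    (I.comapIso f).symm (Iso.refl _) (Iso.refl _) (Iso.refl _) (by simp [-Scheme.IdealSheafData.comapIso_hom_snd])
    (by simp [-Scheme.IdealSheafData.comapIso_hom_snd]) (by simp) (by simp)⟩

section dvr

variable {R : Type u} [CommRing R] [IsDomain R] [IsDiscreteValuationRing R] {X : Scheme.{u}}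
  (g : X ⟶ Spec (CommRingCat.of R)) [Flat g] [IsProper g]

theorem ker_qn_eq {π : R} (hπ : maximalIdeal R = Ideal.span {π}) (n : ℕ) :
    RingHom.ker (qn R n) = Ideal.span {Ideal.Quotient.mk (maximalIdeal R ^ (n + 1 + 1)) (π ^ (n + 1))} := by
  rw [Ideal.Quotient.factor_ker]
  have h : maximalIdeal R ^ (n + 1) = Ideal.span {π ^ (n + 1)} := by rw [hπ, Ideal.span_singleton_pow]
  refine (congrArg (Ideal.map _) h).trans ?_
  rw [Ideal.map_span, Set.image_singleton]

omit [IsProper g] in
theorem amb_thick {π : R} (hπ : maximalIdeal R = Ideal.span {π}) (hπ0 : π ≠ 0) (n : ℕ)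
    [IsLocalRing (Q R (n + 1))] :
    Amb (CohB1.thickToBase g (maximalIdeal R) (n + 1)) (incl g (n + 1))
      (Ideal.Quotient.mk (maximalIdeal R ^ (n + 1 + 1)) (π ^ (n + 1))) := by
  have hsq := isPullback_incl g (n + 1)
  haveI : IsClosedImmersion (Spec.map (CommRingCat.ofHom (qk R (n + 1)))) :=
    IsClosedImmersion.spec_of_surjective _ (qk_surjective R (n + 1))
  haveI : Surjective (Spec.map (CommRingCat.ofHom (qk R (n + 1)))) := ⟨fun p => by
    have hle : RingHom.ker (qk R (n + 1)) ≤ p.asIdeal := by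
      rw [ker_qk, maximalIdeal_Q, Ideal.map_le_iff_le_comap]
      intro a ha
      refine p.isPrime.mem_of_pow_mem (n + 1 + 1) ?_
      rw [← map_pow, Ideal.Quotient.eq_zero_iff_mem.2 (Ideal.pow_mem_pow ha _)]
      exact zero_mem _
    have : p ∈ Set.range (PrimeSpectrum.comap (qk R (n + 1))) := by
      rw [range_comap_of_surjective _ _ (qk_surjective R (n + 1))]
      exact (PrimeSpectrum.mem_zeroLocus _ _).2 hle
    obtain ⟨q, hq⟩ := this
    exact ⟨q, hq⟩⟩
  haveI : Flat (CohB1.thickToBase g (maximalIdeal R) (n + 1)) := MorphismProperty.pullback_snd _ _ ‹Flat g›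
  refine ⟨MorphismProperty.of_isPullback hsq.flip inferInstance, MorphismProperty.of_isPullback hsq.flip inferInstance,
    inferInstance, fun W => ?_, fun b hb => ?_, fun b hb => ?_, ?_, ?_⟩
  · rw [ker_app_of_sq _ (qk_surjective R (n + 1)) hsq W, ker_qk]
  · rw [maximalIdeal_Q, Ideal.mem_map_iff_of_surjective _ Ideal.Quotient.mk_surjective] at hb
    obtain ⟨a, ha, rfl⟩ := hb
    rw [← map_mul, Ideal.Quotient.eq_zero_iff_mem, pow_succ]
    refine Ideal.mul_mem_mul ?_ ha
    exact Ideal.pow_mem_pow (hπ.ge (Ideal.mem_span_singleton_self π)) _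
  · obtain ⟨a, rfl⟩ := Ideal.Quotient.mk_surjective b
    rw [maximalIdeal_Q]
    refine Ideal.mem_map_of_mem _ ?_
    rw [← map_mul, Ideal.Quotient.eq_zero_iff_mem, hπ, Ideal.span_singleton_pow, Ideal.mem_span_singleton,
      pow_succ] at hb
    rw [hπ, Ideal.mem_span_singleton]
    exact (mul_dvd_mul_iff_left (pow_ne_zero _ hπ0)).1 hb
  · rw [maximalIdeal_Q]
    refine Ideal.mem_map_of_mem _ ?_
    exact Ideal.pow_mem_of_mem _ (hπ.ge (Ideal.mem_span_singleton_self π)) _ (Nat.succ_pos n)
  · exact ⟨n + 1 + 1, by rw [maximalIdeal_Q, ← Ideal.map_pow, Ideal.map_quotient_self]; rfl⟩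

/-- Flat lifts of a regular closed subscheme of the closed fibre with unobstructed normal sheaf. -/
theorem exists_embedded_lift [IsAdicComplete (maximalIdeal R) R] {X₀ : Scheme.{u}} (ι₀ : X₀ ⟶ fib g)
    (hι₀ : Mor2.IsRegularClosedImmersion ι₀) [HasExt.{u} X₀.Modules]
    (hN : Subsingleton (Abelian.Ext.{u} (Omega.conormal ι₀) (Coh.structureModule X₀) 1)) :
    ∃ (Z : Scheme.{u}) (j : Z ⟶ X) (i : X₀ ⟶ Z), IsClosedImmersion j ∧ Flat (j ≫ g) ∧
      IsPullback i ι₀ j (pullback.fst g (Spec.map (CommRingCat.ofHom (residue R)))) := by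
  haveI := hι₀.1
  obtain ⟨π, hπ'⟩ := IsDiscreteValuationRing.exists_irreducible R
  have hπ : maximalIdeal R = Ideal.span {π} := hπ'.maximalIdeal_eq
  haveI hQ : ∀ n, IsLocalRing (Q R n) := fun n => isLocalRing_Q R n
  haveI : IsLocallyNoetherian (fib g) := LocallyOfFiniteType.isLocallyNoetherian (pullback.snd g _)
  haveI : CompactSpace (fib g) := QuasiCompact.compactSpace_of_compactSpace (pullback.snd g _)
  haveI : IsNoetherian (fib g) := {}
  let I₀ := ι₀.ker
  have hH1 := subsingleton_HH_homMod ι₀ hN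
  have hloc : ∀ z : I₀.subscheme, ∃ U : (fib g).affineOpens, I₀.subschemeι.base z ∈ U.1 ∧
      ∃ rs : List Γ(fib g, U.1), RingTheory.Sequence.IsWeaklyRegular Γ(fib g, U.1) rs ∧
        I₀.ideal U = Ideal.ofList rs := by
    intro z
    obtain ⟨x, hx⟩ : I₀.subschemeι z ∈ Set.range ι₀ := by
      haveI : IsIso ι₀.toImage := inferInstance
      obtain ⟨x, hx⟩ := ι₀.toImage.homeomorph.surjective z
      refine ⟨x, ?_⟩
      conv_lhs => rw [← ι₀.toImage_imageι]
      exact congrArg ι₀.imageι hx
    obtain ⟨U, hU, hxU, rs, hrs, hI⟩ := hι₀.2 x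
    exact ⟨⟨U, hU⟩, hx ▸ hxU, rs, hrs.toIsWeaklyRegular, hI⟩
  let T := fun n => CohB1.thickToBase g (maximalIdeal R) n
  let P : (n : ℕ) → (CohB1.thick g (maximalIdeal R) n).IdealSheafData → Prop := fun n J =>
    Flat (J.subschemeι ≫ T n) ∧ J.comap (incl g n) = I₀
  haveI hT : ∀ n, IsProper (T n) := fun n => MorphismProperty.pullback_snd _ _ ‹IsProper g›
  haveI hincl : ∀ n, IsClosedImmersion (incl g n) := fun n => by
    haveI : IsClosedImmersion (Spec.map (CommRingCat.ofHom (qk R n))) :=
      IsClosedImmersion.spec_of_surjective _ (qk_surjective R n)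
    exact MorphismProperty.of_isPullback (isPullback_incl g n).flip inferInstance
  have hzero : P 0 (I₀.map (incl g 0)) := by
    refine ⟨?_, comap_map_eq _ _⟩
    letI := (SmoothObs3.isField_zero R).toField
    exact ProdComp12.flat_over_field _
  have hstep : ∀ n J, P n J → ∃ J', P (n + 1) J' ∧ J'.comap (CohB1.thickTrans g (maximalIdeal R) n) = J := by
    intro n J hJ
    have hq : Function.Surjective (qn R n) := Ideal.Quotient.factor_surjective _
    haveI : IsClosedImmersion (Spec.map (CommRingCat.ofHom (qn R n))) := IsClosedImmersion.spec_of_surjective _ hq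
    haveI : IsClosedImmersion (CohB1.thickTrans g (maximalIdeal R) n) :=
      MorphismProperty.of_isPullback (isPullback_trans g n).flip inferInstance
    haveI : QuasiSeparatedSpace (CohB1.thick g (maximalIdeal R) (n + 1)) :=
      quasiSeparatedSpace_of_quasiSeparated (T (n + 1))
    obtain ⟨J', hf, hc⟩ := exists_step (amb_thick g hπ hπ'.ne_zero n) (qn R n) hq (ker_qn_eq hπ n) (T n)
      (CohB1.thickTrans g (maximalIdeal R) n)
      (fun W => by
        rw [ker_app_of_sq _ hq (isPullback_trans g n) W, ker_qn_eq hπ n, Ideal.map_span, Set.image_singleton])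
      (isPullback_trans g n).w J hJ.1 (incl g n) (incl_trans g n) hJ.2 hloc hH1
    exact ⟨J', ⟨hf, by rw [← incl_trans g n, Scheme.IdealSheafData.comap_comp, hc]; exact hJ.2⟩, hc⟩
  choose nx hnx hnxc using hstep
  let sys : ∀ n, { J // P n J } := fun n =>
    Nat.rec ⟨_, hzero⟩ (fun m J => ⟨nx m J.1 J.2, hnx m J.1 J.2⟩) n
  choose t ht using fun n => isPullback_comap (CohB1.thickTrans g (maximalIdeal R) n) (sys (n + 1)).1
    (I' := (sys n).1) (hnxc n (sys n).1 (sys n).2)
  obtain ⟨W, j, w, hj, hp, -, hpb⟩ := Groth.Agent.S0040.result R (maximalIdeal R) g (fun n => (sys n).1.subscheme)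
    (fun n => (sys n).1.subschemeι) t (fun n => inferInstance) ht
    (haveI := hT 0; inferInstanceAs (IsProper ((sys 0).1.subschemeι ≫ T 0)))
  haveI := hj
  haveI := hp
  have hflat : Flat (j ≫ g) := Groth.Agent.S11762.result R (j ≫ g) fun n => by
    have hl : IsPullback (w n) ((sys n).1.subschemeι ≫ T n) (j ≫ g) (CohB1.specQuot (maximalIdeal R) n) :=
      (hpb n).paste_vert (IsPullback.of_hasPullback _ _)
    haveI := (sys n).2.1
    show Flat (pullback.snd (j ≫ g) (CohB1.specQuot (maximalIdeal R) n))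
    rw [← hl.isoPullback_inv_snd]
    infer_instance
  obtain ⟨s, hs⟩ := isPullback_comap (incl g 0) (sys 0).1 (I' := I₀) (sys 0).2.2
  haveI : IsIso ι₀.toImage := inferInstance
  refine ⟨W, j, ι₀.toImage ≫ s ≫ w 0, hj, hflat, ?_⟩
  exact (hs.paste_horiz (hpb 0)).of_iso (asIso ι₀.toImage).symm (Iso.refl _) (Iso.refl _) (Iso.refl _)
    (by simp) (by simp; exact ι₀.toImage_imageι) (by simp)
    (by simpa using incl_ι g 0)

end dvr

end Groth.Agent.EmbLift3
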