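import Groth.Agent.Lib.HilbObs3.Chart
import Groth.Agent.Lib.ChevAff4.Main
import Groth.Agent.Lib.EffCartier.Comap

/-!
# Charts of an ambient family over a small extension
-/

set_option autoImplicit false
set_option linter.style.haveILetI false
set_option backward.isDefEq.respectTransparency.types false

universe u

open CategoryTheory CategoryTheory.Limits AlgebraicGeometry IsLocalRing Opposite

namespace Groth.Agent.EmbLift3

open HilbObs3

variable {B : Type u} [CommRing B] [IsLocalRing B] {P P₀ : Scheme.{u}}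

/-- The structure map on the functions of an open. -/
noncomputable def sig (f : P ⟶ Spec (CommRingCat.of B)) (W : P.Opens) : B →+* Γ(P, W) :=
  (f.appLE ⊤ W le_top).hom.comp (Scheme.ΓSpecIso (CommRingCat.of B)).inv.hom

/-- A flat family over a local ring with closed fibre and an element killed by the maximal ideal. -/
structure Amb (f : P ⟶ Spec (CommRingCat.of B)) (i₀ : P₀ ⟶ P) (t : B) : Prop where
  closed : IsClosedImmersion i₀
  surj : Surjective i₀
  flat : Flat f
  ker : ∀ W : P.affineOpens, RingHom.ker (i₀.app W.1).hom = (maximalIdeal B).map (sig f W.1)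
  mul_t : ∀ b ∈ maximalIdeal B, t * b = 0
  ann_t : ∀ b, t * b = 0 → b ∈ maximalIdeal B
  t_mem : t ∈ maximalIdeal B
  nilp : IsNilpotent (maximalIdeal B)

variable {f : P ⟶ Spec (CommRingCat.of B)} {i₀ : P₀ ⟶ P} {t : B} (H : Amb f i₀ t)

include H in
theorem exists_chart (U : P₀.affineOpens) : ∃ W : P.affineOpens, U.1 = i₀ ⁻¹ᵁ W.1 := by
  haveI := H.closed
  haveI := H.surj
  let O : P.Opens := ⟨i₀ '' (U.1 : Set P₀),
    ((isHomeomorph_iff_isEmbedding_surjective.2 ⟨i₀.isClosedEmbedding.isEmbedding, i₀.surjective⟩).isOpenMap _ U.1.2)⟩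
  have hpre : U.1 = i₀ ⁻¹ᵁ O :=
    TopologicalSpace.Opens.ext (Set.preimage_image_eq _ i₀.isClosedEmbedding.injective).symm
  refine ⟨⟨O, ?_⟩, hpre⟩
  haveI : IsAffine (i₀ ⁻¹ᵁ O).toScheme := by
    show IsAffineOpen (i₀ ⁻¹ᵁ O)
    rw [← hpre]
    exact U.2
  haveI : Surjective (i₀ ∣_ O) := IsZariskiLocalAtTarget.restrict H.surj _
  haveI : IsClosedImmersion (i₀ ∣_ O) := IsZariskiLocalAtTarget.restrict H.closed _
  exact ChevAff4.isAffine_of_surjective (i₀ ∣_ O)

/-- The open of the family over an open of the closed fibre. -/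
noncomputable def ch (U : P₀.affineOpens) : P.affineOpens := (exists_chart H U).choose

theorem ch_eq (U : P₀.affineOpens) : U.1 = i₀ ⁻¹ᵁ (ch H U).1 := (exists_chart H U).choose_spec

include H in
theorem le_of_preimage_le {W W' : P.Opens} (h : i₀ ⁻¹ᵁ W ≤ i₀ ⁻¹ᵁ W') : W ≤ W' := fun z hz => by
  haveI := H.surj
  obtain ⟨a, rfl⟩ := i₀.surjective z
  exact h hz

theorem ch_mono {U V : P₀.affineOpens} (h : V.1 ≤ U.1) : (ch H V).1 ≤ (ch H U).1 :=
  le_of_preimage_le H (by rw [← ch_eq, ← ch_eq]; exact h)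

theorem ch_pre (W : P.affineOpens) (U : P₀.affineOpens) (h : U.1 = i₀ ⁻¹ᵁ W.1) : ch H U = W :=
  Subtype.ext (le_antisymm (le_of_preimage_le H ((ch_eq H U).ge.trans h.le))
    (le_of_preimage_le H (h.ge.trans (ch_eq H U).le)))

theorem iSup_ch {ι : Type*} (V : ι → P₀.affineOpens) (hcov : ⨆ a, (V a).1 = ⊤) : ⨆ a, (ch H (V a)).1 = ⊤ := by
  haveI := H.surj
  refine top_le_iff.1 fun z _ => ?_
  obtain ⟨w, rfl⟩ := i₀.surjective z
  obtain ⟨a, ha⟩ := TopologicalSpace.Opens.mem_iSup.1 (hcov.ge (TopologicalSpace.Opens.mem_top w))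
  exact TopologicalSpace.Opens.mem_iSup.2 ⟨a, (ch_eq H (V a)).le ha⟩

/-- Reduction to the closed fibre. -/
noncomputable def redU (U : P₀.affineOpens) : Γ(P, (ch H U).1) →+* Γ(P₀, U.1) :=
  (i₀.appLE (ch H U).1 U.1 (ch_eq H U).le).hom

theorem redU_spec (U : P₀.affineOpens) :
    Function.Surjective (redU H U) ∧ RingHom.ker (redU H U) = (maximalIdeal B).map (sig f (ch H U).1) := by
  have key : ∀ (W : P.affineOpens) (O : P₀.Opens) (e : O = i₀ ⁻¹ᵁ W.1),
      Function.Surjective (i₀.appLE W.1 O e.le).hom ∧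
        RingHom.ker (i₀.appLE W.1 O e.le).hom = (maximalIdeal B).map (sig f W.1) := by
    rintro W O rfl
    haveI := H.closed
    rw [← Scheme.Hom.app_eq_appLE]
    exact ⟨Scheme.Hom.app_surjective i₀ W.1 W.2, H.ker W⟩
  exact key (ch H U) U.1 (ch_eq H U)

/-- The step on a chart. -/
noncomputable def stp (U : P₀.affineOpens) : Step B Γ(P, (ch H U).1) Γ(P₀, U.1) where
  σ := sig f (ch H U).1
  ι₀ := redU H U
  κ := Function.surjInv (redU_spec H U).1
  t := t
  ι₀_κ := Function.surjInv_eq (redU_spec H U).1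
  ker_ι₀ := (redU_spec H U).2
  mul_t := H.mul_t
  ann_t := H.ann_t
  t_mem := H.t_mem
  nilp := H.nilp

/-- Restriction between charts. -/
noncomputable def cr {U V : P₀.affineOpens} (h : V.1 ≤ U.1) : Γ(P, (ch H U).1) →+* Γ(P, (ch H V).1) :=
  (P.presheaf.map (homOfLE (ch_mono H h)).op).hom

theorem cr_cr {U V W : P₀.affineOpens} (h : V.1 ≤ U.1) (h' : W.1 ≤ V.1) :
    (cr H h').comp (cr H h) = cr H (h'.trans h) := by
  refine RingHom.ext fun y => ?_
  show (P.presheaf.map _ ≫ P.presheaf.map _) y = _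
  rw [← Functor.map_comp]
  rfl

omit [IsLocalRing B] in
theorem sig_res {W W' : P.Opens} (h : W' ≤ W) (b : B) :
    P.presheaf.map (homOfLE h).op (sig f W b) = sig f W' b :=
  ConcreteCategory.congr_hom (Scheme.Hom.appLE_map f _ (homOfLE h).op) ((Scheme.ΓSpecIso (CommRingCat.of B)).inv b)

theorem redU_cr {U V : P₀.affineOpens} (h : V.1 ≤ U.1) (y : Γ(P, (ch H U).1)) :
    redU H V (cr H h y) = P₀.presheaf.map (homOfLE h).op (redU H U y) := by
  show (P.presheaf.map (homOfLE (ch_mono H h)).op ≫ i₀.appLE _ V.1 (ch_eq H V).le) y =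
    (i₀.appLE _ U.1 (ch_eq H U).le ≫ P₀.presheaf.map (homOfLE h).op) y
  rw [Scheme.Hom.map_appLE, Scheme.Hom.appLE_map]

theorem flat_cr {U V : P₀.affineOpens} (h : V.1 ≤ U.1) : (cr H h).Flat := by
  have h1 := HasRingHomProperty.appLE @Flat (𝟙 P) inferInstance (ch H U) (ch H V) (ch_mono H h)
  have e : (𝟙 P : P ⟶ _).appLE (ch H U).1 (ch H V).1 (ch_mono H h) = P.presheaf.map (homOfLE (ch_mono H h)).op := by
    simp [Scheme.Hom.appLE]
    rfl
  rw [e] at h1
  exact h1

variable (Jn : P.IdealSheafData) {I₀ : P₀.IdealSheafData} (hI₀ : Jn.comap i₀ = I₀)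

/-- A lift on a chart. -/
def LiftC (I₀ : P₀.IdealSheafData) (U : P₀.affineOpens) (L : Ideal Γ(P, (ch H U).1)) : Prop :=
  IsLift (stp H U) (Jn.ideal (ch H U)) (I₀.ideal U) L

include hI₀ in
theorem liftC_iff (U : P₀.affineOpens) (L : Ideal Γ(P, (ch H U).1)) :
    LiftC H Jn I₀ U L ↔ ((Ideal.Quotient.mk L).comp (sig f (ch H U).1)).Flat ∧
      L ⊔ Ideal.span {sig f (ch H U).1 t} = Jn.ideal (ch H U) := by
  refine ⟨fun h => ⟨h.flat, h.sup_eq⟩, fun h => ⟨h.1, h.2, ?_⟩⟩
  haveI := H.closed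
  have ht : redU H U (sig f (ch H U).1 t) = 0 :=
    RingHom.mem_ker.1 ((redU_spec H U).2.ge (Ideal.mem_map_of_mem _ H.t_mem))
  show L.map (redU H U) = _
  rw [← hI₀, EffCartier.comap_ideal Jn i₀ (ch H U) U (ch_eq H U).le, ← h.2, Ideal.map_sup, Ideal.map_span,
    Set.image_singleton]
  show L.map (redU H U) = L.map (redU H U) ⊔ Ideal.span {redU H U (sig f (ch H U).1 t)}
  rw [ht, Ideal.span_singleton_eq_bot.2 rfl, sup_bot_eq]

include hI₀ in
theorem liftC_res {U V : P₀.affineOpens} (h : V.1 ≤ U.1) {L : Ideal Γ(P, (ch H U).1)} (hL : LiftC H Jn I₀ U L) :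
    LiftC H Jn I₀ V (L.map (cr H h)) := by
  rw [liftC_iff H Jn hI₀] at hL ⊢
  refine ⟨?_, ?_⟩
  · have h2 := hL.1.comp (flat_quotientMap L (flat_cr H h))
    have e : (Ideal.quotientMap (L.map (cr H h)) (cr H h) Ideal.le_comap_map).comp
        ((Ideal.Quotient.mk L).comp (sig f (ch H U).1)) = (Ideal.Quotient.mk (L.map (cr H h))).comp (sig f (ch H V).1) :=
      RingHom.ext fun b => congrArg (Ideal.Quotient.mk (L.map (cr H h))) (sig_res (ch_mono H h) b)
    rwa [e] at h2
  · have hm : (Jn.ideal (ch H U)).map (cr H h) = Jn.ideal (ch H V) := Jn.map_ideal (ch_mono H h)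
    rw [← hm, ← hL.2, Ideal.map_sup, Ideal.map_span, Set.image_singleton]
    rw [show cr H h (sig f (ch H U).1 t) = sig f (ch H V).1 t from sig_res (ch_mono H h) t]

theorem diff_res {U V : P₀.affineOpens} (h : V.1 ≤ U.1) {L L' : Ideal Γ(P, (ch H U).1)} {y g : Γ(P₀, U.1)}
    (hd : Diff (stp H U) L L' y g) :
    Diff (stp H V) (L.map (cr H h)) (L'.map (cr H h)) (P₀.presheaf.map (homOfLE h).op y)
      (P₀.presheaf.map (homOfLE h).op g) := by
  obtain ⟨z, hz, hzy, hzg⟩ := hd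
  refine ⟨cr H h z, Ideal.mem_map_of_mem _ hz, ?_, ?_⟩
  · show redU H V _ = _
    rw [redU_cr, ← hzy]
    rfl
  · have hm := Ideal.mem_map_of_mem (cr H h) hzg
    rw [map_add] at hm
    have he : (stp H V).e (P₀.presheaf.map (homOfLE h).op g) = cr H h ((stp H U).e g) := by
      show _ = cr H h (sig f (ch H U).1 t * (stp H U).κ g)
      rw [map_mul, show cr H h (sig f (ch H U).1 t) = sig f (ch H V).1 t from sig_res (ch_mono H h) t]
      refine (congrArg (stp H V).e ?_).trans ((stp H V).t_mul _).symm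
      show _ = redU H V (cr H h ((stp H U).κ g))
      rw [redU_cr]
      exact congrArg _ ((stp H U).ι₀_κ g).symm
    rw [he]
    exact hm

end Groth.Agent.EmbLift3
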