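import Groth.Agent.Lib.EmbLift3.Chart
import Groth.Agent.Lib.HilbObs3.Glue

/-!
# Local lifts in an ambient family glue
-/

set_option autoImplicit false
set_option linter.style.haveILetI false
set_option backward.isDefEq.respectTransparency.types false

universe u

open CategoryTheory CategoryTheory.Limits AlgebraicGeometry IsLocalRing Opposite

namespace Groth.Agent.EmbLift3

open HilbObs3

variable {B : Type u} [CommRing B] [IsLocalRing B] {P P₀ : Scheme.{u}} {f : P ⟶ Spec (CommRingCat.of B)} {i₀ : P₀ ⟶ P}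
  {t : B} (H : Amb f i₀ t) (Jn : P.IdealSheafData) {I₀ : P₀.IdealSheafData} (hI₀ : Jn.comap i₀ = I₀)

include hI₀

/-- The difference of two lifts on an overlap is a homomorphism from the ideal to the quotient. -/
theorem exists_diffSec     {V V' : P₀.affineOpens} {L : Ideal Γ(P, (ch H V).1)} {L' : Ideal Γ(P, (ch H V').1)}
    (hL : LiftC H Jn I₀ V L) (hL' : LiftC H Jn I₀ V' L') :
    ∃ s : M2.HomSec (ClSub.idealMod I₀) (ClSub.quotMod I₀) (V.1 ⊓ V'.1),
      ∀ (W : P₀.affineOpens) (hW : W.1 ≤ V.1 ⊓ V'.1) (m : Γ(ClSub.idealMod I₀, W.1)) (g : Γ(P₀, W.1)),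
        Diff (stp H W) (L.map (cr H (hW.trans inf_le_left))) (L'.map (cr H (hW.trans inf_le_right)))
            (M2.idealIncl I₀ m) g →
          s.1 ⟨W.1, hW⟩ m = I₀.subschemeι.app W.1 g := by
  have hl := fun (W : P₀.affineOpens) (hW : W.1 ≤ V.1 ⊓ V'.1) => liftC_res H Jn hI₀ (hW.trans inf_le_left) hL
  have hl' := fun (W : P₀.affineOpens) (hW : W.1 ≤ V.1 ⊓ V'.1) => liftC_res H Jn hI₀ (hW.trans inf_le_right) hL'
  choose g hg using fun (W : P₀.affineOpens) (hW : W.1 ≤ V.1 ⊓ V'.1) (m : Γ(ClSub.idealMod I₀, W.1)) =>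
    exists_diff (stp H W) (hl W hW) (hl' W hW) (incl_mem W m)
  have wd : ∀ (W : P₀.affineOpens) hW m g', Diff (stp H W) (L.map (cr H (le_trans hW inf_le_left)))
      (L'.map (cr H (le_trans hW inf_le_right))) (M2.idealIncl I₀ m) g' →
      (I₀.subschemeι.app W.1 (g W hW m) : Γ(ClSub.quotMod I₀, W.1)) = I₀.subschemeι.app W.1 g' :=
    fun W hW m g' h' => app_eq_app (diff_unique (stp H W) (hl W hW) (hl' W hW) (hg W hW m) h')
  obtain ⟨s, hs⟩ := exists_homSec (M := ClSub.idealMod I₀) (N := ClSub.quotMod I₀)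
    (fun W hW => AddMonoidHom.mk' (fun m => (I₀.subschemeι.app W.1 (g W hW m) : Γ(ClSub.quotMod I₀, W.1)))
      fun m m' => by
        refine Eq.trans ?_ (map_add (I₀.subschemeι.app W.1).hom (g W hW m) (g W hW m'))
        refine wd W hW (m + m') _ ?_
        rw [M2.idealIncl_add]
        exact diff_add (stp H W) (hg W hW m) (hg W hW m'))
    (fun W hW r m => by
      show I₀.subschemeι.app W.1 (g W hW (r • m)) = I₀.subschemeι.app W.1 r * I₀.subschemeι.app W.1 (g W hW m)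
      rw [← map_mul]
      refine wd W hW (r • m) _ ?_
      rw [M2.idealIncl_smul]
      exact diff_smul (stp H W) r (hg W hW m))
    (fun U hU W hW h m => by
      show I₀.subscheme.presheaf.map (homOfLE (I₀.subschemeι.preimage_mono h)).op (I₀.subschemeι.app U.1 (g U hU m)) =
        I₀.subschemeι.app W.1 (g W hW (M1.mres (ClSub.idealMod I₀) h m))
      have hn : I₀.subscheme.presheaf.map (homOfLE (I₀.subschemeι.preimage_mono h)).op (I₀.subschemeι.app U.1 (g U hU m)) =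
          I₀.subschemeι.app W.1 (P₀.presheaf.map (homOfLE h).op (g U hU m)) := by
        rw [← ConcreteCategory.comp_apply, ← ConcreteCategory.comp_apply, Scheme.Hom.naturality]
        rfl
      rw [hn]
      refine (wd W hW _ _ ?_).symm
      rw [show M2.idealIncl I₀ (M1.mres (ClSub.idealMod I₀) h m) = P₀.presheaf.map (homOfLE h).op (M2.idealIncl I₀ m)
        from M2.idealIncl_res I₀ h m]
      have := diff_res H h (hg U hU m)
      rwa [Ideal.map_map, cr_cr, Ideal.map_map, cr_cr] at this)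
  exact ⟨s, fun W hW m g' h' => (hs W hW m).trans (wd W hW m g' h')⟩

/-- A lift can be translated by a homomorphism from the ideal to the quotient. -/
theorem exists_translateSec     {V : P₀.affineOpens} {L : Ideal Γ(P, (ch H V).1)} (hL : LiftC H Jn I₀ V L)
    (φ : M2.HomSec (ClSub.idealMod I₀) (ClSub.quotMod I₀) V.1) :
    ∃ L', LiftC H Jn I₀ V L' ∧ ∀ (W : P₀.affineOpens) (hW : W.1 ≤ V.1) (m : Γ(ClSub.idealMod I₀, W.1)),
      ∃ g, Diff (stp H W) (L.map (cr H hW)) (L'.map (cr H hW)) (M2.idealIncl I₀ m) g ∧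
        (I₀.subschemeι.app W.1 g : Γ(ClSub.quotMod I₀, W.1)) = φ.1 ⟨W.1, hW⟩ m := by
  classical
  choose g₀ hg₀ using fun m => Scheme.Hom.app_surjective I₀.subschemeι V.1 V.2 (φ.1 ⟨V.1, le_rfl⟩ m)
  obtain ⟨d, hd⟩ : ∃ d : Γ(P₀, V.1) → Γ(P₀, V.1), ∀ m,
      (I₀.subschemeι.app V.1 (d (M2.idealIncl I₀ m)) : Γ(ClSub.quotMod I₀, V.1)) = φ.1 ⟨V.1, le_rfl⟩ m := by
    refine ⟨fun f => if hf : ∃ m, M2.idealIncl I₀ (U := V.1) m = f then g₀ hf.choose else 0, fun m => ?_⟩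
    have hf : ∃ m', M2.idealIncl I₀ (U := V.1) m' = M2.idealIncl I₀ m := ⟨m, rfl⟩
    simp only [dif_pos hf]
    rw [hg₀, M2.idealIncl_injective I₀ _ hf.choose_spec]
  have hpre : ∀ f ∈ I₀.ideal V, ∃ m, M2.idealIncl I₀ (U := V.1) m = f := fun f hf =>
    (M2.range_idealIncl I₀ V).ge hf
  have hadd : ∀ f ∈ I₀.ideal V, ∀ f' ∈ I₀.ideal V, d (f + f') - (d f + d f') ∈ I₀.ideal V := by
    intro f hf f' hf'
    obtain ⟨m, rfl⟩ := hpre f hf
    obtain ⟨m', rfl⟩ := hpre f' hf'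
    refine sub_mem_of_app_eq ?_
    rw [← M2.idealIncl_add, hd, map_add, ← hd m, ← hd m']
    exact (map_add (I₀.subschemeι.app V.1).hom _ _).symm
  have hsmul : ∀ a, ∀ f ∈ I₀.ideal V, d (a * f) - a * d f ∈ I₀.ideal V := by
    intro a f hf
    obtain ⟨m, rfl⟩ := hpre f hf
    refine sub_mem_of_app_eq ?_
    rw [← M2.idealIncl_smul, hd, map_smul, ← hd m]
    exact (map_mul (I₀.subschemeι.app V.1).hom _ _).symm
  refine ⟨_, isLift_translate (stp H V) hL d hadd hsmul, fun W hW => ?_⟩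
  suffices H : ∀ f ∈ I₀.ideal W, ∃ g m, M2.idealIncl I₀ m = f ∧
      Diff (stp H W) (L.map (cr H hW))
        ((translate (stp H V) hL d hadd hsmul).map (cr H hW)) f g ∧
      (I₀.subschemeι.app W.1 g : Γ(ClSub.quotMod I₀, W.1)) = φ.1 ⟨W.1, hW⟩ m by
    intro m
    obtain ⟨g, m', e, h1, h2⟩ := H _ (incl_mem W m)
    obtain rfl := M2.idealIncl_injective I₀ _ e
    exact ⟨g, h1, h2⟩
  intro f hf
  rw [← I₀.map_ideal (U := W) (V := V) hW] at hf
  induction hf using Submodule.span_induction with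
  | mem f hf =>
    obtain ⟨a, ha, rfl⟩ := hf
    obtain ⟨m, rfl⟩ := hpre a ha
    refine ⟨_, M1.mres _ hW m, M2.idealIncl_res I₀ hW m,
      diff_res H hW (diff_translate (stp H V) hL d hadd hsmul (incl_mem _ m)), ?_⟩
    refine Eq.trans ?_ (φ.2 ⟨V.1, le_rfl⟩ ⟨W.1, hW⟩ hW m).symm
    rw [← hd m]
    show (P₀.presheaf.map (homOfLE hW).op ≫ I₀.subschemeι.app W.1) (d (M2.idealIncl I₀ m)) = _
    rw [Scheme.Hom.naturality]
    rfl
  | zero =>
    refine ⟨0, 0, (map_zero ((ClSub.idealModι I₀).app W.1).hom), ?_, ?_⟩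
    · obtain ⟨g, hg⟩ := exists_diff (stp H W) (liftC_res H Jn hI₀ hW hL)
        (liftC_res H Jn hI₀ hW (isLift_translate (stp H V) hL d hadd hsmul)) (zero_mem (I₀.ideal W))
      simpa using diff_smul (stp H W) 0 hg
    · rw [map_zero, map_zero]; rfl
  | add f f' _ _ ih ih' =>
    obtain ⟨g, m, e, h1, h2⟩ := ih
    obtain ⟨g', m', e', h1', h2'⟩ := ih'
    refine ⟨g + g', m + m', by rw [M2.idealIncl_add, e, e'], diff_add (stp H W) h1 h1', ?_⟩
    rw [map_add, map_add]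
    exact congr_arg₂ (· + ·) h2 h2'
  | smul r f _ ih =>
    obtain ⟨g, m, e, h1, h2⟩ := ih
    refine ⟨r * g, r • m, by rw [M2.idealIncl_smul, e]; rfl, diff_smul (stp H W) r h1, ?_⟩
    rw [map_smul, ← h2]
    exact map_mul (I₀.subschemeι.app W.1).hom _ _

/-- Translated lifts agree on the overlap. -/
theorem map_eq_of_diffSec     {V V' W : P₀.affineOpens} (hV : W.1 ≤ V.1) (hV' : W.1 ≤ V'.1)
    {L M : Ideal Γ(P, (ch H V).1)} {L' M' : Ideal Γ(P, (ch H V').1)}
    (hL : LiftC H Jn I₀ V L) (hM : LiftC H Jn I₀ V M) (hL' : LiftC H Jn I₀ V' L')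
    (hM' : LiftC H Jn I₀ V' M')
    (hab : ∀ m : Γ(ClSub.idealMod I₀, W.1), ∃ a b c,
      Diff (stp H W) (L.map (cr H hV)) (M.map (cr H hV)) (M2.idealIncl I₀ m) a ∧
      Diff (stp H W) (L'.map (cr H hV')) (M'.map (cr H hV')) (M2.idealIncl I₀ m) b ∧
      Diff (stp H W) (L.map (cr H hV)) (L'.map (cr H hV')) (M2.idealIncl I₀ m) c ∧
      (I₀.subschemeι.app W.1 a : Γ(ClSub.quotMod I₀, W.1)) - I₀.subschemeι.app W.1 b = I₀.subschemeι.app W.1 c) :
    M.map (cr H hV) = M'.map (cr H hV') := by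
  have hlM := liftC_res H Jn hI₀ hV hM
  have hlM' := liftC_res H Jn hI₀ hV' hM'
  have hlL := liftC_res H Jn hI₀ hV hL
  have hlL' := liftC_res H Jn hI₀ hV' hL'
  refine eq_of_diff_zero (stp H W) hlM hlM' fun f hf g hg => ?_
  obtain ⟨m, rfl⟩ := (M2.range_idealIncl I₀ W).ge hf
  obtain ⟨a, b, c, ha, hb, hc, e⟩ := hab m
  have h1 := diff_trans (stp H W) hlM hlM' ha hg
  have h2 := diff_trans (stp H W) hlL' hlM' hc hb
  have h3 := diff_unique (stp H W) hlL hlM' h1 h2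
  have h4 : a - (c + b) ∈ I₀.ideal W := by
    refine sub_mem_of_app_eq ?_
    rw [map_add]
    exact eq_add_of_sub_eq e
  have := sub_mem h3 h4
  convert this using 1
  ring

/-- Local lifts glue if their differences form a coboundary. -/
theorem exists_lift_of_boundary [QuasiSeparatedSpace P] {n : ℕ} (V : Fin n → P₀.affineOpens)
    (hcov : ⨆ i, (V i).1 = ⊤) 
    (L : ∀ i, Ideal Γ(P, (ch H (V i)).1)) (hL : ∀ i, LiftC H Jn I₀ (V i) (L i))
    (s : ∀ i j, M2.HomSec (ClSub.idealMod I₀) (ClSub.quotMod I₀) ((V i).1 ⊓ (V j).1))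
    (hs : ∀ i j (W : P₀.affineOpens) (hW : W.1 ≤ (V i).1 ⊓ (V j).1) (m : Γ(ClSub.idealMod I₀, W.1)) (g : Γ(P₀, W.1)),
        Diff (stp H W) ((L i).map (cr H (hW.trans inf_le_left))) ((L j).map (cr H (hW.trans inf_le_right)))
            (M2.idealIncl I₀ m) g →
          (s i j).1 ⟨W.1, hW⟩ m = I₀.subschemeι.app W.1 g)
    (h : ∀ i, ((CohFound.abF P₀).obj (M2.homMod (ClSub.idealMod I₀) (ClSub.quotMod I₀))).obj.obj (op (V i).1))
    (hh : ∀ i j, CubeField.ab ((CohFound.abF P₀).obj (M2.homMod (ClSub.idealMod I₀) (ClSub.quotMod I₀))) inf_le_left (h i) -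
        CubeField.ab ((CohFound.abF P₀).obj (M2.homMod (ClSub.idealMod I₀) (ClSub.quotMod I₀))) inf_le_right (h j) = s i j) :
    ∃ J' : P.IdealSheafData, ∀ i, LiftC H Jn I₀ (V i) (J'.ideal (ch H (V i))) := by
  choose L' hL' htr using fun i => exists_translateSec H Jn hI₀ (hL i) (M2.homSecOf _ _ (h i))
  have hagree : ∀ (i j : Fin n) (W : P₀.affineOpens) (hi : W.1 ≤ (V i).1) (hj : W.1 ≤ (V j).1),
      (L' i).map (cr H hi) = (L' j).map (cr H hj) := by
    intro i j W hi hj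
    refine map_eq_of_diffSec H Jn hI₀ hi hj (hL i) (hL' i) (hL j) (hL' j) fun m => ?_
    obtain ⟨a, ha, ha'⟩ := htr i W hi m
    obtain ⟨b, hb, hb'⟩ := htr j W hj m
    obtain ⟨c₀, hc₀⟩ := exists_diff (stp H W) (liftC_res H Jn hI₀ hi (hL i)) (liftC_res H Jn hI₀ hj (hL j)) (incl_mem W m)
    refine ⟨a, b, c₀, ha, hb, hc₀, ?_⟩
    rw [ha', hb', ← hs i j W (le_inf hi hj) m c₀ hc₀]
    exact congrArg (fun φ : M2.HomSec (ClSub.idealMod I₀) (ClSub.quotMod I₀) ((V i).1 ⊓ (V j).1) =>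
      φ.1 ⟨W.1, le_inf hi hj⟩ m) (hh i j)
  -- glue
  obtain ⟨K, hK⟩ := exists_idealSheaf (fun i => ch H (V i)) (iSup_ch H V hcov) L' fun i j W hi hj => by
    obtain ⟨U, rfl⟩ : ∃ U : P₀.affineOpens, ch H U = W :=
      ⟨⟨i₀ ⁻¹ᵁ W.1, haveI := H.closed; W.2.preimage i₀⟩, ch_pre H W _ rfl⟩
    have hle : ∀ l, (ch H U).1 ≤ (ch H (V l)).1 → U.1 ≤ (V l).1 := fun l hl => by
      rw [ch_eq H (V l), ch_eq H U]
      exact i₀.preimage_mono hl
    exact hagree i j U (hle i hi) (hle j hj)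
  exact ⟨K, fun i => by rw [hK]; exact hL' i⟩

/-- Local lifts glue if the first cohomology of the sheaf of homomorphisms vanishes. -/
theorem exists_lift_of_local [QuasiSeparatedSpace P] {n : ℕ} (V : Fin n → P₀.affineOpens)
    (hcov : ⨆ i, (V i).1 = ⊤) 
    (L : ∀ i, Ideal Γ(P, (ch H (V i)).1)) (hL : ∀ i, LiftC H Jn I₀ (V i) (L i))
    (hH1 : Subsingleton (Coh.HH P₀ (M2.homMod (ClSub.idealMod I₀) (ClSub.quotMod I₀)) 1)) :
    ∃ J' : P.IdealSheafData, ∀ i, LiftC H Jn I₀ (V i) (J'.ideal (ch H (V i))) := by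
  let N := M2.homMod (ClSub.idealMod I₀) (ClSub.quotMod I₀)
  have hlift : ∀ i (W : P₀.affineOpens) (h : W.1 ≤ (V i).1), LiftC H Jn I₀ W ((L i).map (cr H h)) :=
    fun i W h => liftC_res H Jn hI₀ h (hL i)
  choose s hs using fun i j => exists_diffSec H Jn hI₀ (hL i) (hL j)
  have hcoc : CubeField.IsCocycleAb ((CohFound.abF P₀).obj N) (fun i => (V i).1) (fun i j => s i j) := by
    intro i j l T hi hj hl
    refine homSec_ext fun W hW m => ?_
    obtain ⟨g, hg⟩ := exists_diff (stp H W) (hlift i W (hW.trans hi)) (hlift j W (hW.trans hj)) (incl_mem W m)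
    obtain ⟨g', hg'⟩ := exists_diff (stp H W) (hlift j W (hW.trans hj)) (hlift l W (hW.trans hl)) (incl_mem W m)
    show (s i j).1 ⟨W.1, _⟩ m + (s j l).1 ⟨W.1, _⟩ m = (s i l).1 ⟨W.1, _⟩ m
    rw [hs i j W (le_inf (hW.trans hi) (hW.trans hj)) m g hg, hs j l W (le_inf (hW.trans hj) (hW.trans hl)) m g' hg',
      hs i l W (le_inf (hW.trans hi) (hW.trans hl)) m (g + g') (diff_trans (stp H W) (hlift j W (hW.trans hj))
        (hlift l W (hW.trans hl)) hg hg')]
    exact (map_add (I₀.subschemeι.app W.1).hom g g').symm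
  obtain ⟨c, hc⟩ := CubeField.exists_isClass ((CohFound.abF P₀).obj N) (fun i => (V i).1) hcov _ hcoc
  haveI := (CohFound.subsingleton_HH_iff N 1).1 hH1
  rw [Subsingleton.elim c 0] at hc
  obtain ⟨h, hh⟩ := hc.eq_boundary
  exact exists_lift_of_boundary H Jn hI₀ V hcov L hL s hs h hh

end Groth.Agent.EmbLift3
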