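import Groth.Agent.Lib.EmbLift3.Glue
import Groth.Agent.Lib.HilbObs3.Regular
import Groth.Agent.Lib.EffCartier.Comap

/-!
# One step of lifting an embedded family
-/

set_option autoImplicit false
set_option linter.style.haveILetI false
set_option backward.isDefEq.respectTransparency.types false

universe u

open CategoryTheory CategoryTheory.Limits AlgebraicGeometry IsLocalRing Opposite

namespace Groth.Agent.EmbLift3

open HilbObs3

/-- A subideal with the same special fibre as an ideal with flat quotient over a quotient of the base. -/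
theorem sup_span_eq {B C S : Type u} [CommRing B] [CommRing C] [CommRing S] (σ : B →+* S) (t : B) {m : Ideal B}
    (hm : IsNilpotent m) (q : B →+* C) (hq : Function.Surjective q) (hker : RingHom.ker q = Ideal.span {t})
    {L J : Ideal S} (φ : C →+* S ⧸ J) (hcomp : φ.comp q = (Ideal.Quotient.mk J).comp σ) (hφ : φ.Flat)
    (hle : L ≤ J) (hsup : J ≤ L ⊔ m.map σ) : L ⊔ Ideal.span {σ t} = J := by
  let A : Ideal S := Ideal.span {σ t}
  have hA : A ≤ J := by
    rw [Ideal.span_le, Set.singleton_subset_iff, SetLike.mem_coe, ← Ideal.Quotient.eq_zero_iff_mem]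
    have := RingHom.congr_fun hcomp t
    rw [RingHom.comp_apply, show q t = 0 from RingHom.mem_ker.1 (hker.ge (Ideal.mem_span_singleton_self t)),
      map_zero] at this
    exact this.symm
  have hk : RingHom.ker q ≤ RingHom.ker ((Ideal.Quotient.mk A).comp σ) := by
    rw [hker, Ideal.span_le, Set.singleton_subset_iff, SetLike.mem_coe, RingHom.mem_ker, RingHom.comp_apply,
      Ideal.Quotient.eq_zero_iff_mem]
    exact Ideal.mem_span_singleton_self _
  let σ' : C →+* S ⧸ A := q.liftOfSurjective hq ⟨(Ideal.Quotient.mk A).comp σ, hk⟩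
  have hσ' : ∀ b, σ' (q b) = Ideal.Quotient.mk A (σ b) := fun b =>
    RingHom.congr_fun (q.liftOfSurjective_comp hq ⟨(Ideal.Quotient.mk A).comp σ, hk⟩) b
  let e : (S ⧸ A) ⧸ J.map (Ideal.Quotient.mk A) ≃+* S ⧸ J :=
    (DoubleQuot.quotQuotEquivQuotSup A J).trans (Ideal.quotEquivOfEq (sup_eq_right.2 hA))
  have hflat : ((Ideal.Quotient.mk (J.map (Ideal.Quotient.mk A))).comp σ').Flat := by
    have h := hφ.comp (RingHom.Flat.of_bijective (f := e.symm.toRingHom) e.symm.bijective)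
    convert h using 1
    refine RingHom.ext fun c => ?_
    obtain ⟨b, rfl⟩ := hq c
    show Ideal.Quotient.mk _ (σ' (q b)) = e.symm (φ (q b))
    rw [hσ', RingEquiv.eq_symm_apply, show φ (q b) = Ideal.Quotient.mk J (σ b) from RingHom.congr_fun hcomp b]
    rfl
  have h1 := eq_of_le_of_flat σ' (m := m.map q)
    (by
      obtain ⟨n, hn⟩ := hm
      exact ⟨n, by rw [← Ideal.map_pow, hn, Ideal.zero_eq_bot, Ideal.map_bot]; rfl⟩)
    hflat (Ideal.map_mono hle) (by
      rw [Ideal.map_map, show σ'.comp q = (Ideal.Quotient.mk A).comp σ from RingHom.ext hσ', ← Ideal.map_map,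
        ← Ideal.map_sup]
      exact Ideal.map_mono hsup)
  have hc := congrArg (Ideal.comap (Ideal.Quotient.mk A)) h1
  rw [Ideal.comap_map_of_surjective _ Ideal.Quotient.mk_surjective,
    Ideal.comap_map_of_surjective _ Ideal.Quotient.mk_surjective, ← RingHom.ker_eq_comap_bot, Ideal.mk_ker] at hc
  rw [hc, sup_eq_left.2 hA]

variable {B : Type u} [CommRing B] {P : Scheme.{u}}

theorem appLE_subschemeι_eq (g : P ⟶ Spec (CommRingCat.of B)) (I : P.IdealSheafData) (W : P.affineOpens) :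
    ((I.subschemeι ≫ g).appLE ⊤ (I.subschemeι ⁻¹ᵁ W.1) le_top).hom =
      (I.subschemeObjIso W).inv.hom.comp (((Ideal.Quotient.mk (I.ideal W)).comp (sig g W.1)).comp
        (Scheme.ΓSpecIso (CommRingCat.of B)).hom.hom) := by
  have h1 : (I.subschemeι ≫ g).appLE ⊤ (I.subschemeι ⁻¹ᵁ W.1) le_top =
      g.appLE ⊤ W.1 le_top ≫ I.subschemeι.app W.1 := by
    rw [Scheme.Hom.app_eq_appLE, Scheme.Hom.appLE_comp_appLE]
  rw [h1, I.subschemeι_app]
  refine RingHom.ext fun c => ?_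
  show (I.subschemeObjIso W).inv (Ideal.Quotient.mk _ (g.appLE ⊤ W.1 le_top c)) = _
  refine congrArg (fun t => (I.subschemeObjIso W).inv (Ideal.Quotient.mk _ t)) ?_
  exact congrArg (fun φ : Γ(Spec (CommRingCat.of B), ⊤) ⟶ Γ(P, W.1) => φ.hom c)
    (Iso.hom_inv_id_assoc (Scheme.ΓSpecIso (CommRingCat.of B)) (g.appLE ⊤ W.1 le_top)).symm

/-- Flatness of a closed subscheme on an affine open. -/
theorem flat_mk_sig (g : P ⟶ Spec (CommRingCat.of B)) (I : P.IdealSheafData) (h : Flat (I.subschemeι ≫ g))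
    (W : P.affineOpens) : ((Ideal.Quotient.mk (I.ideal W)).comp (sig g W.1)).Flat := by
  have h2 := HasRingHomProperty.appLE @Flat _ h ⟨⊤, isAffineOpen_top _⟩
    ⟨I.subschemeι ⁻¹ᵁ W.1, W.2.preimage _⟩ le_top
  change ((I.subschemeι ≫ g).appLE ⊤ _ le_top).hom.Flat at h2
  rw [appLE_subschemeι_eq g I W] at h2
  have h3 := ((RingHom.Flat.of_bijective
      (ConcreteCategory.bijective_of_isIso (Scheme.ΓSpecIso (CommRingCat.of B)).inv)).comp h2).comp
    (RingHom.Flat.of_bijective (ConcreteCategory.bijective_of_isIso (I.subschemeObjIso W).hom))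
  have e : (I.subschemeObjIso W).hom.hom.comp
      (((I.subschemeObjIso W).inv.hom.comp (((Ideal.Quotient.mk (I.ideal W)).comp (sig g W.1)).comp
        (Scheme.ΓSpecIso (CommRingCat.of B)).hom.hom)).comp (Scheme.ΓSpecIso (CommRingCat.of B)).inv.hom) =
      (Ideal.Quotient.mk (I.ideal W)).comp (sig g W.1) := RingHom.ext fun c => by simp
  rwa [e] at h3

/-- Flatness of a closed subscheme from an affine cover. -/
theorem flat_of_cover (g : P ⟶ Spec (CommRingCat.of B)) (I : P.IdealSheafData) {ι : Type*}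
    (W : ι → P.affineOpens) (hW : ⨆ a, (W a).1 = ⊤)
    (h : ∀ a, ((Ideal.Quotient.mk (I.ideal (W a))).comp (sig g (W a).1)).Flat) : Flat (I.subschemeι ≫ g) := by
  refine (HasRingHomProperty.iff_of_iSup_eq_top (P := @Flat) (f := I.subschemeι ≫ g)
    (fun a => (⟨I.subschemeι ⁻¹ᵁ (W a).1, (W a).2.preimage _⟩ : I.subscheme.affineOpens))
    (by
      show ⨆ a, I.subschemeι ⁻¹ᵁ (W a).1 = ⊤
      rw [← Scheme.Hom.preimage_iSup, hW]; rfl)).2 fun a => ?_
  change ((I.subschemeι ≫ g).appLE ⊤ _ le_top).hom.Flat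
  rw [appLE_subschemeι_eq g I (W a)]
  exact ((RingHom.Flat.of_bijective
    (ConcreteCategory.bijective_of_isIso (Scheme.ΓSpecIso (CommRingCat.of B)).hom)).comp (h a)).comp
      (RingHom.Flat.of_bijective (ConcreteCategory.bijective_of_isIso (I.subschemeObjIso (W a)).inv))

/-- Restricting the image of an ideal sheaf along a closed immersion. -/
theorem comap_map_eq {P' : Scheme.{u}} (i : P' ⟶ P) [IsClosedImmersion i] (J : P'.IdealSheafData) :
    (J.map i).comap i = J := by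
  refine Scheme.IdealSheafData.ext_of_iSup_eq_top (fun W : P.affineOpens => ⟨i ⁻¹ᵁ W.1, W.2.preimage i⟩)
    (by show ⨆ W : P.affineOpens, i ⁻¹ᵁ W.1 = ⊤
        rw [← Scheme.Hom.preimage_iSup, show ⨆ W : P.affineOpens, W.1 = ⊤ from iSup_affineOpens_eq_top P]
        rfl) fun W => ?_
  rw [EffCartier.comap_ideal (J.map i) i W ⟨i ⁻¹ᵁ W.1, W.2.preimage i⟩ le_rfl, J.ideal_map_of_isAffineHom i W,
    ← Scheme.Hom.app_eq_appLE]
  exact Ideal.map_comap_of_surjective _ (i.app_surjective W.1 W.2) _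

section step

variable [IsLocalRing B] {P₀ P' : Scheme.{u}} {f : P ⟶ Spec (CommRingCat.of B)} {i₀ : P₀ ⟶ P} {t : B}
  (H : Amb f i₀ t) {C : Type u} [CommRing C] (q : B →+* C) (hq : Function.Surjective q)
  (hkq : RingHom.ker q = Ideal.span {t}) (g' : P' ⟶ Spec (CommRingCat.of C)) (i : P' ⟶ P) [IsClosedImmersion i]
  (hi : ∀ W : P.affineOpens, RingHom.ker (i.app W.1).hom = Ideal.span {sig f W.1 t})
  (hsq : i ≫ f = g' ≫ Spec.map (CommRingCat.ofHom q))
  (J : P'.IdealSheafData) (hJ : Flat (J.subschemeι ≫ g'))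

include hsq in
omit [IsLocalRing B] [IsClosedImmersion i] in
theorem app_sig (W : P.Opens) (b : B) : i.app W (sig f W b) = sig g' (i ⁻¹ᵁ W) (q b) := by
  have h : f.appLE ⊤ W le_top ≫ i.app W =
      (Spec.map (CommRingCat.ofHom q)).app ⊤ ≫ g'.appLE ⊤ (i ⁻¹ᵁ W) le_top := by
    refine (congrArg (f.appLE ⊤ W le_top ≫ ·) (Scheme.Hom.app_eq_appLE (f := i) (U := W))).trans ?_
    refine ((Scheme.Hom.appLE_comp_appLE i f ⊤ W (i ⁻¹ᵁ W) le_top le_rfl).trans ?_)
    simp only [hsq]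
    exact ((congrArg (· ≫ g'.appLE ⊤ (i ⁻¹ᵁ W) le_top) (Scheme.Hom.app_eq_appLE
      (f := Spec.map (CommRingCat.ofHom q)) (U := ⊤))).trans
        (Scheme.Hom.appLE_comp_appLE g' (Spec.map (CommRingCat.ofHom q)) ⊤ ⊤ (i ⁻¹ᵁ W) le_top le_top)).symm
  refine (ConcreteCategory.congr_hom h _).trans (congrArg (g'.appLE ⊤ _ le_top) ?_)
  exact (ConcreteCategory.congr_hom (Scheme.ΓSpecIso_inv_naturality (CommRingCat.ofHom q)) b).symm

include hsq hJ in
omit [IsLocalRing B] in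
theorem exists_flatHom (W : P.affineOpens) :
    ∃ φ : C →+* Γ(P, W.1) ⧸ (J.map i).ideal W,
      φ.comp q = (Ideal.Quotient.mk _).comp (sig f W.1) ∧ φ.Flat := by
  let W' : P'.affineOpens := ⟨i ⁻¹ᵁ W.1, W.2.preimage i⟩
  have hm : (J.map i).ideal W = (J.ideal W').comap (i.app W.1).hom := J.ideal_map_of_isAffineHom i W
  let ψ : Γ(P, W.1) ⧸ (J.map i).ideal W →+* Γ(P', W'.1) ⧸ J.ideal W' :=
    Ideal.quotientMap _ (i.app W.1).hom hm.le
  have hψ : Function.Bijective ψ := ⟨Ideal.quotientMap_injective' hm.ge,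
    Ideal.quotientMap_surjective (i.app_surjective W.1 W.2)⟩
  let eψ := RingEquiv.ofBijective ψ hψ
  refine ⟨eψ.symm.toRingHom.comp ((Ideal.Quotient.mk (J.ideal W')).comp (sig g' W'.1)), RingHom.ext fun b => ?_,
    (flat_mk_sig g' J hJ W').comp (RingHom.Flat.of_bijective (f := eψ.symm.toRingHom) eψ.symm.bijective)⟩
  show eψ.symm (Ideal.Quotient.mk _ (sig g' W'.1 (q b))) = Ideal.Quotient.mk _ (sig f W.1 b)
  rw [RingEquiv.symm_apply_eq, ← app_sig q g' i hsq W.1 b]
  rfl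

variable (i₀' : P₀ ⟶ P') (hi₀ : i₀' ≫ i = i₀) {I₀ : P₀.IdealSheafData} (hI₀' : J.comap i₀' = I₀)

include hi₀ hI₀' in
theorem comap_eq_special : (J.map i).comap i₀ = I₀ := by
  rw [← hi₀, Scheme.IdealSheafData.comap_comp, comap_map_eq, hI₀']

include hq hkq hsq hJ hi₀ hI₀' in
/-- A weakly regular sequence lifts. -/
theorem exists_liftC_of_regular (U : P₀.affineOpens) (rs : List Γ(P₀, U.1))
    (hrs : RingTheory.Sequence.IsWeaklyRegular Γ(P₀, U.1) rs) (hI : I₀.ideal U = Ideal.ofList rs) :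
    ∃ L, LiftC H (J.map i) I₀ U L := by
  haveI := H.closed
  let Jn := J.map i
  have hIJ : (Jn.ideal (ch H U)).map (redU H U) = I₀.ideal U := by
    rw [← comap_eq_special i J i₀' hi₀ hI₀', EffCartier.comap_ideal (J.map i) i₀ (ch H U) U (ch_eq H U).le]
    rfl
  have hs := (redU_spec H U).1
  have hex : ∀ j : Fin rs.length, ∃ y ∈ Jn.ideal (ch H U), redU H U y = rs.get j := fun j =>
    (Ideal.mem_map_iff_of_surjective _ hs).1 (hIJ.ge (hI ▸ Ideal.subset_span (List.get_mem rs j)))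
  choose g hgmem hg using hex
  letI := (sig f (ch H U).1).toAlgebra
  haveI : Module.Flat B Γ(P, (ch H U).1) :=
    RingHom.flat_algebraMap_iff.1 ((RingHom.Flat.of_bijective
      (ConcreteCategory.bijective_of_isIso (Scheme.ΓSpecIso (CommRingCat.of B)).inv)).comp
        (HasRingHomProperty.appLE @Flat f H.flat ⟨⊤, isAffineOpen_top _⟩ (ch H U) le_top))
  let e : (Γ(P, (ch H U).1) ⧸ (maximalIdeal B).map (algebraMap B Γ(P, (ch H U).1))) ≃+* Γ(P₀, U.1) :=
    (Ideal.quotEquivOfEq (redU_spec H U).2.symm).trans (RingHom.quotientKerEquivOfSurjective hs)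
  have hmap : (List.ofFn g).map (redU H U) = rs := by
    rw [List.map_ofFn, show (redU H U) ∘ g = rs.get from funext hg, List.ofFn_get]
  have hreg := EmbDef.isWeaklyRegular_lift (maximalIdeal B) H.nilp (List.ofFn g) (by
    refine ((AddEquiv.isWeaklyRegular_congr (e := e.toAddEquiv) ?_).2 hrs)
    rw [List.forall₂_map_left_iff]
    suffices h : ∀ rs', (List.ofFn g).map (redU H U) = rs' → List.Forall₂ _ (List.ofFn g) rs' from h rs hmap
    rintro _ rfl
    rw [List.forall₂_map_right_iff, List.forall₂_same]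
    intro r _ z
    exact map_mul e _ z)
  refine ⟨Ideal.ofList (List.ofFn g), (liftC_iff H (J.map i) (comap_eq_special i J i₀' hi₀ hI₀') U _).2
    ⟨RingHom.flat_algebraMap_iff.2 hreg.2, ?_⟩⟩
  obtain ⟨φ, hφ, hφf⟩ := exists_flatHom q g' i hsq J hJ (ch H U)
  refine sup_span_eq (sig f (ch H U).1) t H.nilp q hq hkq φ hφ hφf ?_ fun y hy => ?_
  · rw [EmbDef.ofList_ofFn, Ideal.span_le]
    rintro _ ⟨j, rfl⟩
    exact hgmem j
  · rw [← (redU_spec H U).2, RingHom.ker_eq_comap_bot, ← Ideal.comap_map_of_surjective _ hs, Ideal.mem_comap,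
      Ideal.map_ofList, hmap, ← hI, ← hIJ]
    exact Ideal.mem_map_of_mem _ hy

include hi₀ hI₀' in
/-- Off the subscheme the unit ideal is a lift. -/
theorem exists_liftC_top (U : P₀.affineOpens) (hU : I₀.ideal U = ⊤) : ∃ L, LiftC H (J.map i) I₀ U L := by
  haveI := H.closed
  refine ⟨⊤, (liftC_iff H (J.map i) (comap_eq_special i J i₀' hi₀ hI₀') U _).2 ⟨?_, ?_⟩⟩
  · haveI : Subsingleton (Γ(P, (ch H U).1) ⧸ (⊤ : Ideal Γ(P, (ch H U).1))) := Ideal.Quotient.subsingleton_iff.2 rfl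
    algebraize [(Ideal.Quotient.mk (⊤ : Ideal Γ(P, (ch H U).1))).comp (sig f (ch H U).1)]
    exact Module.Flat.of_free
  · rw [top_sup_eq]
    symm
    have hIJ : ((J.map i).ideal (ch H U)).map (redU H U) = I₀.ideal U := by
      rw [← comap_eq_special i J i₀' hi₀ hI₀', EffCartier.comap_ideal (J.map i) i₀ (ch H U) U (ch_eq H U).le]
      rfl
    obtain ⟨y, hy, hy1⟩ := (Ideal.mem_map_iff_of_surjective _ (redU_spec H U).1).1
      (show (1 : Γ(P₀, U.1)) ∈ _ from hIJ.symm ▸ hU.symm ▸ Submodule.mem_top)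
    refine Ideal.eq_top_of_isUnit_mem _ hy ?_
    have hm : y - 1 ∈ (maximalIdeal B).map (sig f (ch H U).1) := by
      rw [← (redU_spec H U).2, RingHom.mem_ker, map_sub, map_one, hy1, sub_self]
    obtain ⟨n, hn⟩ := H.nilp
    rw [show y = 1 + (y - 1) by ring]
    refine IsNilpotent.isUnit_one_add ⟨n, ?_⟩
    have := Ideal.pow_mem_pow hm n
    rwa [← Ideal.map_pow, hn, Ideal.zero_eq_bot, Ideal.map_bot, Ideal.mem_bot] at this

theorem exists_affine_top {P₁ : Scheme.{u}} (I : P₁.IdealSheafData) {z : P₁} (hz : z ∉ Set.range I.subschemeι.base) :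
    ∃ U : P₁.affineOpens, z ∈ U.1 ∧ I.ideal U = ⊤ := by
  have ho : IsOpen (Set.range I.subschemeι.base)ᶜ := I.subschemeι.isClosedEmbedding.isClosed_range.isOpen_compl
  obtain ⟨V, hV, hzV, hVW⟩ :=
    P₁.isBasis_affineOpens.exists_subset_of_mem_open (show z ∈ (Set.range I.subschemeι.base)ᶜ from hz) ho
  obtain ⟨V', hV', rfl⟩ := hV
  refine ⟨⟨V', hV'⟩, hzV, ?_⟩
  rw [Ideal.eq_top_iff_one, ← Scheme.IdealSheafData.ker_subschemeι_app, RingHom.mem_ker, map_one]
  have he : I.subschemeι ⁻¹ᵁ V' = ⊥ := by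
    ext p
    exact ⟨fun hp => (hVW hp ⟨p, rfl⟩).elim, fun hp => hp.elim⟩
  haveI : Subsingleton Γ(I.subscheme, I.subschemeι ⁻¹ᵁ V') :=
    CommRingCat.subsingleton_of_isTerminal (he ▸ I.subscheme.sheaf.isTerminalOfEmpty)
  exact Subsingleton.elim _ _

include H hq hkq hi hsq hJ hi₀ hI₀' in
/-- A flat closed subscheme lifts one step when the sheaf of homomorphisms has no first cohomology. -/
theorem exists_step [CompactSpace P₀] [QuasiSeparatedSpace P]
    (hloc : ∀ z : I₀.subscheme, ∃ U : P₀.affineOpens, I₀.subschemeι.base z ∈ U.1 ∧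
      ∃ rs : List Γ(P₀, U.1), RingTheory.Sequence.IsWeaklyRegular Γ(P₀, U.1) rs ∧ I₀.ideal U = Ideal.ofList rs)
    (hH1 : Subsingleton (Coh.HH P₀ (M2.homMod (ClSub.idealMod I₀) (ClSub.quotMod I₀)) 1)) :
    ∃ J' : P.IdealSheafData, Flat (J'.subschemeι ≫ f) ∧ J'.comap i = J := by
  have hall : ∀ z : P₀, ∃ U : P₀.affineOpens, z ∈ U.1 ∧ ∃ L, LiftC H (J.map i) I₀ U L := by
    intro z
    by_cases hz : z ∈ Set.range I₀.subschemeι.base
    · obtain ⟨w, rfl⟩ := hz
      obtain ⟨U, hU, rs, hrs, hI⟩ := hloc w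
      exact ⟨U, hU, exists_liftC_of_regular H q hq hkq g' i hsq J hJ i₀' hi₀ hI₀' U rs hrs hI⟩
    · obtain ⟨U, hzU, hU⟩ := exists_affine_top I₀ hz
      exact ⟨U, hzU, exists_liftC_top H i J i₀' hi₀ hI₀' U hU⟩
  choose U hzU L hL using hall
  obtain ⟨s, hs⟩ := isCompact_univ.elim_finite_subcover (fun z : P₀ => ((U z).1 : Set P₀)) (fun z => (U z).1.2)
    fun z _ => Set.mem_iUnion.2 ⟨z, hzU z⟩
  let e := (Fintype.equivFin s).symm
  have hcov : ⨆ a, (U (e a)).1 = ⊤ := by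
    refine TopologicalSpace.Opens.ext (Set.eq_univ_of_forall fun z => ?_)
    obtain ⟨w, hw, hz⟩ := Set.mem_iUnion₂.1 (hs (Set.mem_univ z))
    exact TopologicalSpace.Opens.mem_iSup.2 ⟨e.symm ⟨w, hw⟩, by rw [Equiv.apply_symm_apply]; exact hz⟩
  have hI₀ := comap_eq_special i J i₀' hi₀ hI₀'
  obtain ⟨J', hJ'⟩ := exists_lift_of_local H (J.map i) hI₀ (fun a => U (e a)) hcov (fun a => L (e a))
    (fun a => hL (e a)) hH1
  refine ⟨J', flat_of_cover f J' (fun a => ch H (U (e a))) (iSup_ch H _ hcov)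
    (fun a => ((liftC_iff H (J.map i) hI₀ _ _).1 (hJ' a)).1), ?_⟩
  refine Scheme.IdealSheafData.ext_of_iSup_eq_top
    (fun a => (⟨i ⁻¹ᵁ (ch H (U (e a))).1, (ch H (U (e a))).2.preimage i⟩ : P'.affineOpens)) ?_ fun a => ?_
  · show ⨆ a, i ⁻¹ᵁ (ch H (U (e a))).1 = ⊤
    rw [← Scheme.Hom.preimage_iSup, iSup_ch H _ hcov]; rfl
  let W := ch H (U (e a))
  rw [EffCartier.comap_ideal J' i W ⟨i ⁻¹ᵁ W.1, W.2.preimage i⟩ le_rfl, ← Scheme.Hom.app_eq_appLE]
  have h2 := congrArg (Ideal.map (i.app W.1).hom) ((liftC_iff H (J.map i) hI₀ _ _).1 (hJ' a)).2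
  rw [Ideal.map_sup, Ideal.map_span, Set.image_singleton,
    show (i.app W.1).hom (sig f W.1 t) = 0 from RingHom.mem_ker.1 ((hi W).ge (Ideal.mem_span_singleton_self _)),
    Ideal.span_singleton_eq_bot.2 rfl, sup_bot_eq, J.ideal_map_of_isAffineHom i W,
    Ideal.map_comap_of_surjective _ (i.app_surjective W.1 W.2)] at h2
  exact h2

end step

end Groth.Agent.EmbLift3
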